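import Mathlib

/-!
# Camina–Herzog: 2-central 2-elements force abelian Sylow 2-subgroups

An elementary proof (no character theory, no `Z*`).

Hypothesis `Hyp G`: every 2-element of `G` is centralised by a Sylow 2-subgroup.

* `inv_sq` : no element inverts a 2-element of order at least 4.
* `sq_root` : if `g ∈ P` and `g * g` is central in `P`, then `g * g = c * c` with `c` central in `P`
  (Burnside fusion).
* `comm_of_sq` : an involution `x ∈ P` commuting with `s * s` (`s ∈ P`) commutes with `s`.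
* `invol_central` : every involution of `P` is central in `P`.
* `main` : `P` is commutative.
-/

set_option autoImplicit false

namespace Cfsg.Agent.Lib.Helper29.CamHer

open scoped Pointwise

variable {G : Type*} [Group G]

/-- every 2-element is centralised by some Sylow 2-subgroup -/
def Hyp (G : Type*) [Group G] : Prop :=
  ∀ x : G, (∃ k : ℕ, orderOf x = 2 ^ k) →
    ∃ Q : Sylow 2 G, (Q : Subgroup G) ≤ Subgroup.centralizer ({x} : Set G)

theorem two_pow (P : Sylow 2 G) {a : G} (ha : a ∈ P) : ∃ j : ℕ, a ^ (2 ^ j) = 1 := by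
  obtain ⟨j, hj⟩ := P.isPGroup' ⟨a, ha⟩
  exact ⟨j, by simpa using congrArg Subtype.val hj⟩

theorem two_ord (P : Sylow 2 G) {a : G} (ha : a ∈ P) : ∃ k : ℕ, orderOf a = 2 ^ k := by
  obtain ⟨j, hj⟩ := two_pow P ha
  obtain ⟨k, -, hk⟩ := (Nat.dvd_prime_pow Nat.prime_two).1 (orderOf_dvd_of_pow_eq_one hj)
  exact ⟨k, hk⟩

theorem mem_smul (S : Sylow 2 G) (h x : G) :
    x ∈ (h • S : Sylow 2 G) ↔ h⁻¹ * x * h ∈ S := by
  have h1 : x ∈ (h • S : Sylow 2 G) ↔ x ∈ MulAut.conj h • (S : Subgroup G) := Iff.rfl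
  rw [h1, Subgroup.mem_pointwise_smul_iff_inv_smul_mem]
  have h2 : (MulAut.conj h)⁻¹ • x = h⁻¹ * x * h := by
    rw [MulAut.smul_def, MulAut.conj_inv_apply]
  rw [h2]
  rfl

theorem mem_cent {x c : G} : c ∈ Subgroup.centralizer ({x} : Set G) ↔ c * x = x * c := by
  rw [Subgroup.mem_centralizer_iff]
  constructor
  · intro h; exact (h x rfl).symm
  · intro h y hy
    rw [Set.mem_singleton_iff] at hy
    subst hy
    exact h.symm

variable [Finite G]

/-- the index form of the hypothesis -/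
theorem odd_index (hH : Hyp G) (x : G) (hx : ∃ k : ℕ, orderOf x = 2 ^ k) :
    ¬ 2 ∣ (Subgroup.centralizer ({x} : Set G)).index := by
  obtain ⟨Q, hQ⟩ := hH x hx
  haveI : Fact (Nat.Prime 2) := ⟨Nat.prime_two⟩
  intro h2
  exact Q.not_dvd_index (h2.trans (Subgroup.index_dvd_of_le hQ))

/-- a Sylow subgroup centralising a 2-element contains it -/
theorem mem_of_cent (Q : Sylow 2 G) (x : G) (hx : ∃ k : ℕ, orderOf x = 2 ^ k)
    (hQ : (Q : Subgroup G) ≤ Subgroup.centralizer ({x} : Set G)) : x ∈ Q := by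
  haveI : Fact (Nat.Prime 2) := ⟨Nat.prime_two⟩
  obtain ⟨k, hk⟩ := hx
  have hz : IsPGroup 2 (Subgroup.zpowers x) := by
    apply IsPGroup.of_card (n := k)
    rw [Nat.card_zpowers, hk]
  have hn : Subgroup.zpowers x ≤ Subgroup.normalizer ((Q : Subgroup G) : Set G) := by
    rw [Subgroup.zpowers_le, Subgroup.mem_normalizer_iff]
    intro q
    constructor
    · intro hq
      have h1 : q * x = x * q := mem_cent.1 (hQ hq)
      have h2 : x * q * x⁻¹ = q := by rw [← h1]; group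
      rw [h2]; exact hq
    · intro hq
      have h1 : (x * q * x⁻¹) * x = x * (x * q * x⁻¹) := mem_cent.1 (hQ hq)
      have h2 : x * q * x⁻¹ = q := by
        have h3 : x * q = x * (x * q * x⁻¹) := by rw [← h1]; group
        exact (mul_left_cancel h3).symm
      rw [← h2]; exact hq
  have hsup : IsPGroup 2 (Subgroup.zpowers x ⊔ (Q : Subgroup G) : Subgroup G) :=
    IsPGroup.to_sup_of_normal_right' hz Q.2 hn
  have heq := Q.is_maximal' hsup le_sup_right
  have hxm : x ∈ (Subgroup.zpowers x ⊔ (Q : Subgroup G) : Subgroup G) :=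
    (le_sup_left : Subgroup.zpowers x ≤ _) (Subgroup.mem_zpowers x)
  rw [heq] at hxm
  exact hxm

/-- **Step A**: no element inverts a 2-element of order at least 4. -/
theorem inv_sq (hH : Hyp G) (x a : G) (hx : ∃ k : ℕ, orderOf x = 2 ^ k)
    (ha : a * x * a⁻¹ = x⁻¹) : x * x = 1 := by
  by_contra hne
  apply odd_index hH x hx
  set C := Subgroup.centralizer ({x} : Set G) with hC
  have ha' : a⁻¹ * x * a = x⁻¹ := by
    have h1 : a⁻¹ * x⁻¹ * a = x := by rw [← ha]; group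
    have h2 : a⁻¹ * x * a = (a⁻¹ * x⁻¹ * a)⁻¹ := by group
    rw [h2, h1]
  have haC : a ∉ C := by
    intro h
    have h1 : a * x = x * a := mem_cent.1 h
    have h2 : a * x * a⁻¹ = x := by rw [h1]; group
    rw [h2] at ha
    apply hne
    calc x * x = x * x⁻¹ := by rw [← ha]
      _ = 1 := mul_inv_cancel x
  have haaC : a * a ∈ C := by
    rw [hC, mem_cent]
    have h1 : a * x = x⁻¹ * a := by rw [← ha]; group
    have h2 : a * x⁻¹ = x * a := by
      have : a * x⁻¹ * a⁻¹ = x := by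
        have h3 : a * x⁻¹ * a⁻¹ = (a * x * a⁻¹)⁻¹ := by group
        rw [h3, ha, inv_inv]
      calc a * x⁻¹ = a * x⁻¹ * a⁻¹ * a := by group
        _ = x * a := by rw [this]
    calc a * a * x = a * (a * x) := by group
      _ = a * (x⁻¹ * a) := by rw [h1]
      _ = a * x⁻¹ * a := by group
      _ = x * a * a := by rw [h2]
      _ = x * (a * a) := by group
  have haN : a ∈ Subgroup.normalizer (C : Set G) := by
    rw [Subgroup.mem_normalizer_iff]
    intro c
    rw [hC, mem_cent, mem_cent]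
    constructor
    · intro h
      -- c commutes with x, so a c a⁻¹ commutes with a x a⁻¹ = x⁻¹ hence with x
      have h1 : (a * c * a⁻¹) * x⁻¹ = x⁻¹ * (a * c * a⁻¹) := by
        calc (a * c * a⁻¹) * x⁻¹ = (a * c * a⁻¹) * (a * x * a⁻¹) := by rw [ha]
          _ = a * (c * x) * a⁻¹ := by group
          _ = a * (x * c) * a⁻¹ := by rw [h]
          _ = (a * x * a⁻¹) * (a * c * a⁻¹) := by group
          _ = x⁻¹ * (a * c * a⁻¹) := by rw [ha]
      calc a * c * a⁻¹ * x = x * (x⁻¹ * (a * c * a⁻¹)) * x := by group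
        _ = x * ((a * c * a⁻¹) * x⁻¹) * x := by rw [h1]
        _ = x * (a * c * a⁻¹) := by group
    · intro h
      have h1 : c * (a⁻¹ * x * a) = (a⁻¹ * x * a) * c := by
        calc c * (a⁻¹ * x * a) = a⁻¹ * ((a * c * a⁻¹) * x) * a := by group
          _ = a⁻¹ * (x * (a * c * a⁻¹)) * a := by rw [h]
          _ = (a⁻¹ * x * a) * c := by group
      rw [ha'] at h1
      calc c * x = x * (x⁻¹ * c) * x := by group
        _ = x * (c * x⁻¹) * x := by rw [h1]
        _ = x * c := by group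
  set L := C ⊔ Subgroup.zpowers a with hL
  have hCL : C ≤ L := le_sup_left
  have haL : a ∈ L := (le_sup_right : Subgroup.zpowers a ≤ L) (Subgroup.mem_zpowers a)
  have hLN : L ≤ Subgroup.normalizer (C : Set G) :=
    sup_le Subgroup.le_normalizer (by rw [Subgroup.zpowers_le]; exact haN)
  haveI : (C.subgroupOf L).Normal := (Subgroup.normal_subgroupOf_iff_le_normalizer hCL).2 hLN
  set abar : L ⧸ C.subgroupOf L := QuotientGroup.mk (⟨a, haL⟩ : L) with habar
  have h1 : abar ≠ 1 := by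
    rw [habar, Ne, QuotientGroup.eq_one_iff, Subgroup.mem_subgroupOf]
    exact haC
  have h2 : abar ^ 2 = 1 := by
    rw [habar, ← QuotientGroup.mk_pow, QuotientGroup.eq_one_iff, Subgroup.mem_subgroupOf]
    have : ((⟨a, haL⟩ : L) ^ 2 : L).1 = a * a := by
      rw [pow_two]; rfl
    rw [this]; exact haaC
  have h3 : orderOf abar = 2 := orderOf_eq_prime h2 h1
  have h4 : 2 ∣ Nat.card (L ⧸ C.subgroupOf L) := by
    rw [← h3]; exact orderOf_dvd_natCard abar
  have h5 : 2 ∣ C.relIndex L := h4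
  exact h5.trans (Subgroup.relIndex_dvd_index_of_le hCL)

/-- **Step B**: square roots of central squares can be found in the centre. -/
theorem sq_root (hH : Hyp G) (P : Sylow 2 G) (g : G) (hg : g ∈ P)
    (hgc : ∀ q ∈ P, q * (g * g) = (g * g) * q) :
    ∃ c ∈ P, (∀ q ∈ P, q * c = c * q) ∧ c * c = g * g := by
  haveI : Fact (Nat.Prime 2) := ⟨Nat.prime_two⟩
  have hg2 := two_ord P hg
  obtain ⟨Q, hQ⟩ := hH g hg2
  have hgQ : g ∈ Q := mem_of_cent Q g hg2 hQ
  obtain ⟨h, hh⟩ := MulAction.exists_smul_eq G P Q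
  -- c₁ = h⁻¹ g h is central in P
  have hc1P : h⁻¹ * g * h ∈ P := by
    rw [← mem_smul P h g, hh]; exact hgQ
  have hc1c : ∀ q ∈ P, q * (h⁻¹ * g * h) = (h⁻¹ * g * h) * q := by
    intro q hq
    have hq' : h * q * h⁻¹ ∈ Q := by
      rw [← hh, mem_smul]
      have : h⁻¹ * (h * q * h⁻¹) * h = q := by group
      rw [this]; exact hq
    have h1 : (h * q * h⁻¹) * g = g * (h * q * h⁻¹) := mem_cent.1 (hQ hq')
    calc q * (h⁻¹ * g * h) = h⁻¹ * ((h * q * h⁻¹) * g) * h := by group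
      _ = h⁻¹ * (g * (h * q * h⁻¹)) * h := by rw [h1]
      _ = (h⁻¹ * g * h) * q := by group
  have hx : g * g ∈ Subgroup.centralizer ((P : Subgroup G) : Set G) := by
    rw [Subgroup.mem_centralizer_iff]
    intro q hq
    exact hgc q hq
  have hy : h⁻¹ * (g * g) * h ∈ Subgroup.centralizer ((P : Subgroup G) : Set G) := by
    rw [Subgroup.mem_centralizer_iff]
    intro q hq
    have h1 := hc1c q hq
    calc q * (h⁻¹ * (g * g) * h) = (q * (h⁻¹ * g * h)) * (h⁻¹ * g * h) := by group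
      _ = ((h⁻¹ * g * h) * q) * (h⁻¹ * g * h) := by rw [h1]
      _ = (h⁻¹ * g * h) * (q * (h⁻¹ * g * h)) := by group
      _ = (h⁻¹ * g * h) * ((h⁻¹ * g * h) * q) := by rw [h1]
      _ = h⁻¹ * (g * g) * h * q := by group
  obtain ⟨n, hn, hneq⟩ := P.conj_eq_normalizer_conj_of_mem_centralizer (g * g) h hx hy
  have hn : ∀ q : G, q ∈ P ↔ n * q * n⁻¹ ∈ P := fun q => hn q
  refine ⟨n * (h⁻¹ * g * h) * n⁻¹, (hn _).1 hc1P, ?_, ?_⟩
  · intro q hq
    have hq' : n⁻¹ * q * n ∈ P := by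
      rw [hn]
      have : n * (n⁻¹ * q * n) * n⁻¹ = q := by group
      rw [this]; exact hq
    have h1 := hc1c _ hq'
    calc q * (n * (h⁻¹ * g * h) * n⁻¹) = n * ((n⁻¹ * q * n) * (h⁻¹ * g * h)) * n⁻¹ := by group
      _ = n * ((h⁻¹ * g * h) * (n⁻¹ * q * n)) * n⁻¹ := by rw [h1]
      _ = n * (h⁻¹ * g * h) * n⁻¹ * q := by group
  · calc n * (h⁻¹ * g * h) * n⁻¹ * (n * (h⁻¹ * g * h) * n⁻¹)
        = n * (h⁻¹ * (g * g) * h) * n⁻¹ := by group
      _ = n * (n⁻¹ * (g * g) * n) * n⁻¹ := by rw [hneq]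
      _ = g * g := by group

/-- **Step C**: an involution commuting with `s * s` commutes with `s`. -/
theorem comm_of_sq (hH : Hyp G) (P : Sylow 2 G) (x s : G) (hx : x ∈ P) (hs : s ∈ P)
    (hxx : x * x = 1) (hxs : x * (s * s) = (s * s) * x) : x * s = s * x := by
  haveI : Fact (Nat.Prime 2) := ⟨Nat.prime_two⟩
  have hy2 := two_ord P (P.mul_mem hs hs)
  obtain ⟨Q₀, hQ₀⟩ := hH (s * s) hy2
  set H := Subgroup.centralizer ({s * s} : Set G) with hH'
  -- the 2-subgroup `P ⊓ H` of `H` lies in a conjugate of `Q₀` by an element of `H`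
  have hK : IsPGroup 2 (((P : Subgroup G) ⊓ H).subgroupOf H) := by
    have h1 : IsPGroup 2 ((P : Subgroup G) ⊓ H : Subgroup G) := P.2.to_le inf_le_left
    exact h1.comap_of_injective H.subtype H.subtype_injective
  obtain ⟨R₀, hR₀⟩ := hK.exists_le_sylow
  obtain ⟨u, hu⟩ := MulAction.exists_smul_eq H (Q₀.subtype hQ₀) R₀
  -- R₁ = u • Q₀
  set R₁ : Sylow 2 G := (u : G) • Q₀ with hR₁
  have hmem : ∀ k : G, k ∈ P → k ∈ H → k ∈ R₁ := by
    intro k hkP hkH
    have h1 : (⟨k, hkH⟩ : H) ∈ R₀ := hR₀ (by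
      rw [Subgroup.mem_subgroupOf]; exact ⟨hkP, hkH⟩)
    rw [← hu] at h1
    have h2 : u⁻¹ * (⟨k, hkH⟩ : H) * u ∈ Q₀.subtype hQ₀ := by
      have h3 : (⟨k, hkH⟩ : H) ∈ MulAut.conj u • ((Q₀.subtype hQ₀ : Sylow 2 H) : Subgroup H) := h1
      rw [Subgroup.mem_pointwise_smul_iff_inv_smul_mem] at h3
      have h4 : (MulAut.conj u)⁻¹ • (⟨k, hkH⟩ : H) = u⁻¹ * (⟨k, hkH⟩ : H) * u := by
        rw [MulAut.smul_def, MulAut.conj_inv_apply]
      rw [h4] at h3
      exact h3
    have h5 : ((u⁻¹ * (⟨k, hkH⟩ : H) * u : H) : G) ∈ Q₀ := by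
      have h6 : (u⁻¹ * (⟨k, hkH⟩ : H) * u : H) ∈ (Q₀ : Subgroup G).subgroupOf H := by
        rw [← Sylow.coe_subtype]; exact h2
      exact Subgroup.mem_subgroupOf.1 h6
    rw [hR₁, mem_smul]
    exact h5
  have hsH : s ∈ H := by rw [hH', mem_cent]; group
  have hxH : x ∈ H := by rw [hH', mem_cent]; exact hxs
  have hsR : s ∈ R₁ := hmem s hs hsH
  have hxR : x ∈ R₁ := hmem x hx hxH
  -- `s * s` is central in `R₁`
  have hcR : ∀ r ∈ R₁, r * (s * s) = (s * s) * r := by
    intro r hr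
    rw [hR₁, mem_smul] at hr
    have h1 : ((u : G)⁻¹ * r * u) * (s * s) = (s * s) * ((u : G)⁻¹ * r * u) := mem_cent.1 (hQ₀ hr)
    have h2 : (u : G) * (s * s) = (s * s) * u := mem_cent.1 u.2
    have h3 : (u : G)⁻¹ * (s * s) = (s * s) * (u : G)⁻¹ := by
      calc (u : G)⁻¹ * (s * s) = (u : G)⁻¹ * ((s * s) * u) * (u : G)⁻¹ := by group
        _ = (u : G)⁻¹ * (u * (s * s)) * (u : G)⁻¹ := by rw [h2]
        _ = (s * s) * (u : G)⁻¹ := by group
    calc r * (s * s) = u * (((u : G)⁻¹ * r * u) * ((u : G)⁻¹ * (s * s))) := by group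
      _ = u * (((u : G)⁻¹ * r * u) * ((s * s) * (u : G)⁻¹)) := by rw [h3]
      _ = u * ((((u : G)⁻¹ * r * u) * (s * s)) * (u : G)⁻¹) := by group
      _ = u * (((s * s) * ((u : G)⁻¹ * r * u)) * (u : G)⁻¹) := by rw [h1]
      _ = (u * (s * s)) * (u : G)⁻¹ * r := by group
      _ = ((s * s) * u) * (u : G)⁻¹ * r := by rw [h2]
      _ = (s * s) * r := by group
  obtain ⟨c, hcR₁, hcc, hcsq⟩ := sq_root hH R₁ s hsR hcR
  -- t = s c⁻¹ is an involution (or 1)
  have hcs : s * c = c * s := hcc s hsR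
  have hcx : x * c = c * x := hcc x hxR
  have hcs' : s * c⁻¹ = c⁻¹ * s := by
    calc s * c⁻¹ = c⁻¹ * (c * s) * c⁻¹ := by group
      _ = c⁻¹ * (s * c) * c⁻¹ := by rw [hcs]
      _ = c⁻¹ * s := by group
  have htt : (s * c⁻¹) * (s * c⁻¹) = 1 := by
    calc (s * c⁻¹) * (s * c⁻¹) = s * (c⁻¹ * s) * c⁻¹ := by group
      _ = s * (s * c⁻¹) * c⁻¹ := by rw [hcs']
      _ = (s * s) * (c * c)⁻¹ := by group
      _ = 1 := by rw [hcsq, mul_inv_cancel]
  have hxinv : x⁻¹ = x := inv_eq_of_mul_eq_one_right hxx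
  have htinv : (s * c⁻¹)⁻¹ = s * c⁻¹ := inv_eq_of_mul_eq_one_right htt
  -- x inverts k = x t
  have hk2 : ∃ j : ℕ, orderOf (x * (s * c⁻¹)) = 2 ^ j :=
    two_ord R₁ (R₁.mul_mem hxR (R₁.mul_mem hsR (R₁.inv_mem hcR₁)))
  have hinv : x * (x * (s * c⁻¹)) * x⁻¹ = (x * (s * c⁻¹))⁻¹ := by
    rw [mul_inv_rev, htinv]
    calc x * (x * (s * c⁻¹)) * x⁻¹ = (x * x) * (s * c⁻¹) * x⁻¹ := by group
      _ = s * c⁻¹ * x⁻¹ := by rw [hxx, one_mul]
  have hkk := inv_sq hH (x * (s * c⁻¹)) x hk2 hinv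
  -- so x and t commute
  have hxt : x * (s * c⁻¹) = (s * c⁻¹) * x := by
    have h1 : x * (s * c⁻¹) = (x * (s * c⁻¹))⁻¹ := (inv_eq_of_mul_eq_one_right hkk).symm
    rw [mul_inv_rev, htinv, hxinv] at h1
    exact h1
  calc x * s = (x * (s * c⁻¹)) * c := by group
    _ = ((s * c⁻¹) * x) * c := by rw [hxt]
    _ = (s * c⁻¹) * (x * c) := by group
    _ = (s * c⁻¹) * (c * x) := by rw [hcx]
    _ = s * x := by group

/-- **Step D**: every involution of a Sylow 2-subgroup is central in it. -/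
theorem invol_central (hH : Hyp G) (P : Sylow 2 G) (x : G) (hx : x ∈ P) (hxx : x * x = 1) :
    ∀ s ∈ P, x * s = s * x := by
  have key : ∀ k : ℕ, ∀ s ∈ P, s ^ (2 ^ k) = 1 → x * s = s * x := by
    intro k
    induction k with
    | zero =>
      intro s _ hs1
      rw [pow_zero, pow_one] at hs1
      rw [hs1, mul_one, one_mul]
    | succ k ih =>
      intro s hs hs1
      have h1 : (s * s) ^ (2 ^ k) = 1 := by
        rw [← pow_two, ← pow_mul, ← pow_succ']; exact hs1
      exact comm_of_sq hH P x s hx hs hxx (ih (s * s) (P.mul_mem hs hs) h1)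
  intro s hs
  obtain ⟨k, hk⟩ := two_pow P hs
  exact key k s hs hk

/-- **Step E**: the Sylow 2-subgroups are commutative. -/
theorem main (hH : Hyp G) (P : Sylow 2 G) : ∀ a ∈ P, ∀ b ∈ P, a * b = b * a := by
  have key : ∀ k : ℕ, ∀ g ∈ P, (∀ q ∈ P, q * g ^ (2 ^ k) = g ^ (2 ^ k) * q) →
      ∀ q ∈ P, q * g = g * q := by
    intro k
    induction k with
    | zero =>
      intro g _ hc q hq
      have := hc q hq
      rwa [pow_zero, pow_one] at this
    | succ k ih =>
      intro g hg hc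
      have hpow : (g * g) ^ (2 ^ k) = g ^ (2 ^ (k + 1)) := by
        rw [← pow_two, ← pow_mul, ← pow_succ']
      have h1 : ∀ q ∈ P, q * (g * g) = (g * g) * q := by
        apply ih (g * g) (P.mul_mem hg hg)
        intro q hq
        rw [hpow]; exact hc q hq
      obtain ⟨c, hcP, hcc, hcsq⟩ := sq_root hH P g hg h1
      have hgc : g * c = c * g := hcc g hg
      have hgc' : g * c⁻¹ = c⁻¹ * g := by
        calc g * c⁻¹ = c⁻¹ * (c * g) * c⁻¹ := by group
          _ = c⁻¹ * (g * c) * c⁻¹ := by rw [hgc]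
          _ = c⁻¹ * g := by group
      have htt : (g * c⁻¹) * (g * c⁻¹) = 1 := by
        calc (g * c⁻¹) * (g * c⁻¹) = g * (c⁻¹ * g) * c⁻¹ := by group
          _ = g * (g * c⁻¹) * c⁻¹ := by rw [hgc']
          _ = (g * g) * (c * c)⁻¹ := by group
          _ = 1 := by rw [hcsq, mul_inv_cancel]
      have h2 := invol_central hH P (g * c⁻¹) (P.mul_mem hg (P.inv_mem hcP)) htt
      intro q hq
      have h3 := h2 q hq
      have h4 := hcc q hq
      calc q * g = (q * (g * c⁻¹)) * c := by group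
        _ = ((g * c⁻¹) * q) * c := by rw [h3]
        _ = (g * c⁻¹) * (q * c) := by group
        _ = (g * c⁻¹) * (c * q) := by rw [h4]
        _ = g * q := by group
  intro a ha b hb
  obtain ⟨k, hk⟩ := two_pow P hb
  have := key k b hb (by intro q _; rw [hk, mul_one, one_mul]) a ha
  exact this

end Cfsg.Agent.Lib.Helper29.CamHer
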