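import Mathlib
import Cfsg.Agent.S1186
import Cfsg.Agent.S1181
import Cfsg.Agent.S0201
import Cfsg.Agent.Lib.Helper18.UniqueInvolution
import Cfsg.Agent.Lib.Lead.Cores
import Cfsg.Agent.Lib.Helper29.InvAct

/-!
Isolated involutions and Sylow subgroups of odd prime order: if `z` is an isolated involution of
a finite group whose order is divisible by the odd prime `p`, then some element of order `p` is
centralized or inverted by `z`.  The proof is by induction, using the order formula for isolated
involutions and, when the Sylow 2-subgroups have a unique involution, the Brauer–Suzuki theorem.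
-/

set_option autoImplicit false

namespace Cfsg.Agent.Lib.Helper29.IsoSyl

open Cfsg Cfsg.Agent.Lib.Helper8.IsoInv Cfsg.Agent.Lib.Helper8.IsoK
open Cfsg.Agent.Lib.Helper25.QuatSyl Cfsg.Agent.Lib.Helper29

universe u

/-- An isolated involution is isolated in every subgroup containing it. -/
theorem isolated_subgroup {G : Type*} [Group G] {z : G} (hz : IsIsolatedInvolution z)
    (H : Subgroup G) (hzH : z ∈ H) : IsIsolatedInvolution (⟨z, hzH⟩ : H) := by
  refine ⟨by rw [Subgroup.orderOf_mk]; exact hz.1, ?_⟩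
  intro g hcomm
  apply Subtype.ext
  have h := congrArg Subtype.val hcomm.eq
  exact hz.2 (g : G) h

/-- The odd-order elements inverted by `z` and commuting with `s` are counted by an index in the
centralizer of `s`. -/
theorem card_KH_dvd {G : Type*} [Group G] [Finite G] (z : G) (hz : IsIsolatedInvolution z)
    (s : G) (hsz : Commute s z) :
    Nat.card {k : G // Odd (orderOf k) ∧ z * k * z⁻¹ = k⁻¹ ∧ Commute k s} ∣
      Nat.card (Subgroup.centralizer ({s} : Set G)) := by
  have hzH : z ∈ Subgroup.centralizer ({s} : Set G) :=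
    Subgroup.mem_centralizer_singleton_iff.mpr hsz.eq.symm
  have h1 := Cfsg.Agent.S1186.card_eq_K (⟨z, hzH⟩ : Subgroup.centralizer ({s} : Set G))
    (isolated_subgroup hz _ hzH)
  have e : {k : Subgroup.centralizer ({s} : Set G) // Odd (orderOf k) ∧
      (⟨z, hzH⟩ : Subgroup.centralizer ({s} : Set G)) * k
        * (⟨z, hzH⟩ : Subgroup.centralizer ({s} : Set G))⁻¹ = k⁻¹} ≃
      {k : G // Odd (orderOf k) ∧ z * k * z⁻¹ = k⁻¹ ∧ Commute k s} :=
    { toFun := fun k => ⟨(k.1 : G), by rw [Subgroup.orderOf_coe]; exact k.2.1,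
        congrArg Subtype.val k.2.2, Subgroup.mem_centralizer_singleton_iff.mp k.1.2⟩
      invFun := fun k => ⟨⟨k.1, Subgroup.mem_centralizer_singleton_iff.mpr k.2.2.2.eq⟩,
        by rw [Subgroup.orderOf_mk]; exact k.2.1, Subtype.ext k.2.2.1⟩
      left_inv := fun k => rfl
      right_inv := fun k => rfl }
  rw [← Nat.card_congr e, h1]
  exact Dvd.intro _ rfl

/-- If `p` divides the order of the centralizer of `z`, some element of order `p` commutes
with `z`. -/
theorem of_dvd_centralizer {G : Type*} [Group G] [Finite G] (z : G) (p : ℕ) [Fact p.Prime]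
    (h : p ∣ Nat.card (Subgroup.centralizer ({z} : Set G))) :
    ∃ x : G, orderOf x = p ∧ (z * x * z⁻¹ = x ∨ z * x * z⁻¹ = x⁻¹) := by
  obtain ⟨x, hx⟩ := exists_prime_orderOf_dvd_card' p h
  refine ⟨(x : G), by rw [Subgroup.orderOf_coe]; exact hx, Or.inl ?_⟩
  have hc : (x : G) * z = z * (x : G) := Subgroup.mem_centralizer_singleton_iff.mp x.2
  rw [← hc, mul_inv_cancel_right]

/-- If a Sylow 2-subgroup has a unique involution, every 2-subgroup of the subgroup generated by
the involutions is cyclic. -/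
theorem cyc_of_unique {G : Type u} [Group G] [Finite G] (S : Sylow 2 G) (z : G)
    (hzS : z ∈ (S : Subgroup G))
    (huniq : ∀ y ∈ (S : Subgroup G), orderOf y = 2 → y = z) :
    ∀ T : Subgroup G, IsPGroup 2 T → T ≤ Subgroup.closure {g : G | orderOf g = 2} →
      IsCyclic T := by
  intro T hT hTI
  have hE : Set.ncard {g : (S : Subgroup G) | g ^ 2 = 1} ≤ 2 := by
    have hsub : {g : (S : Subgroup G) | g ^ 2 = 1} ⊆ {1, ⟨z, hzS⟩} := by
      intro g hg
      by_cases h1 : g = 1
      · left; exact h1
      · right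
        have ho : orderOf g = 2 := orderOf_eq_prime hg h1
        apply Subtype.ext
        exact huniq g g.2 (by rw [Subgroup.orderOf_coe]; exact ho)
    calc Set.ncard {g : (S : Subgroup G) | g ^ 2 = 1}
        ≤ Set.ncard ({1, ⟨z, hzS⟩} : Set (S : Subgroup G)) :=
          Set.ncard_le_ncard hsub (Set.toFinite _)
      _ ≤ 2 := Set.ncard_insert_le _ _ |>.trans (by rw [Set.ncard_singleton])
  have hcycS : IsCyclic (S : Subgroup G) → IsCyclic T := by
    intro hc
    obtain ⟨g, hg⟩ := exists_conj_le S T hT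
    obtain ⟨f, hf⟩ : ∃ f : T →* (S : Subgroup G), ∀ t : T, ((f t : (S : Subgroup G)) : G) =
        g⁻¹ * (t : G) * g :=
      ⟨{ toFun := fun t => ⟨g⁻¹ * t * g, hg t t.2⟩
         map_one' := by apply Subtype.ext; simp
         map_mul' := by
           intro a b
           apply Subtype.ext
           show g⁻¹ * ((a : G) * b) * g = g⁻¹ * a * g * (g⁻¹ * b * g)
           group }, fun _ => rfl⟩
    have hfinj : Function.Injective f := by
      intro a b hab
      have h1 : g⁻¹ * (a : G) * g = g⁻¹ * (b : G) * g := by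
        rw [← hf, ← hf, hab]
      apply Subtype.ext
      calc (a : G) = g * (g⁻¹ * a * g) * g⁻¹ := by group
        _ = g * (g⁻¹ * b * g) * g⁻¹ := by rw [h1]
        _ = b := by group
    exact isCyclic_of_injective f hfinj
  rcases Cfsg.Agent.Lib.Helper18.UniqueInvolution.cyclic_or_quaternion S.2 hE with hc | ⟨n, ⟨e⟩⟩
  · exact hcycS hc
  · rcases n with _ | _ | k
    · apply hcycS
      haveI : IsCyclic (QuaternionGroup (2 ^ 0)) := QuaternionGroup.quaternionGroup_one_isCyclic
      exact isCyclic_of_surjective e.symm.toMonoidHom e.symm.surjective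
    · exact Cfsg.Agent.S0201.keyQ (Nat.card G) G rfl S e T hT hTI
    · exact Cfsg.Agent.S0846.key (Nat.card G) G rfl S k e T hT hTI

/-- The case of a Sylow 2-subgroup with a unique involution. -/
theorem ui_case {G : Type u} [Group G] [Finite G] (z : G) (hz : IsIsolatedInvolution z)
    (S : Sylow 2 G) (hzS : z ∈ (S : Subgroup G))
    (huniq : ∀ y ∈ (S : Subgroup G), orderOf y = 2 → y = z) (p : ℕ) [Fact p.Prime]
    (hpG : p ∣ Nat.card G) :
    ∃ x : G, orderOf x = p ∧ (z * x * z⁻¹ = x ∨ z * x * z⁻¹ = x⁻¹) := by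
  by_cases hpC : p ∣ Nat.card (Subgroup.centralizer ({z} : Set G))
  · exact of_dvd_centralizer z p hpC
  have hz2 := hz.1
  obtain ⟨I, hIdef⟩ : ∃ I : Subgroup G, I = Subgroup.closure {g : G | orderOf g = 2} := ⟨_, rfl⟩
  have hzI : z ∈ I := by rw [hIdef]; exact Subgroup.subset_closure hz2
  have hIn : I.Normal := by rw [hIdef]; exact Cfsg.Agent.S0847.inv_normal
  obtain ⟨P⟩ : Nonempty (Sylow 2 I) := inferInstance
  have hcyc : IsCyclic (P : Subgroup I) := by
    subst hIdef
    have h := cyc_of_unique S z hzS huniq ((P : Subgroup _).map (Subgroup.subtype _))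
      (IsPGroup.map P.2 _) (by rintro _ ⟨x, -, rfl⟩; exact x.2)
    exact isCyclic_of_surjective
      (Subgroup.equivMapOfInjective _ _ (Subgroup.subtype_injective _)).symm.toMonoidHom
      (MulEquiv.surjective _)
  have h2card : 2 ∣ Nat.card I := by
    rw [← hz2]
    exact Subgroup.orderOf_dvd_natCard _ hzI
  have hmin : (Nat.card I).minFac = 2 := (Nat.minFac_eq_two_iff _).mpr h2card
  have hP := IsCyclic.normalizer_le_centralizer hmin hcyc
  obtain ⟨τ, hτ⟩ : ∃ τ : I →* P, τ = MonoidHom.transferSylow P hP := ⟨_, rfl⟩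
  have hodd : ¬ 2 ∣ Nat.card τ.ker := by
    rw [hτ]; exact MonoidHom.not_dvd_card_ker_transferSylow P hP
  have hkerodd : Odd (Nat.card τ.ker) := by
    rw [← Nat.not_even_iff_odd, even_iff_two_dvd]
    exact hodd
  have hkermem : ∀ k : I, Odd (orderOf k) → k ∈ τ.ker := by
    intro k hk
    rw [MonoidHom.mem_ker]
    have h1 : orderOf (τ k) ∣ orderOf k := orderOf_map_dvd τ k
    obtain ⟨a, ha⟩ := P.2.exists_card_eq
    have h3 : orderOf (τ k) ∣ 2 ^ a := by
      rw [← ha]
      exact orderOf_dvd_natCard _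
    have hcop : Nat.Coprime (2 ^ a) (orderOf k) := by
      apply Nat.Coprime.pow_left
      apply (Nat.Prime.coprime_iff_not_dvd Nat.prime_two).mpr
      rw [← even_iff_two_dvd, Nat.not_even_iff_odd]
      exact hk
    have h4 := Nat.eq_one_of_dvd_coprimes hcop h3 h1
    exact orderOf_eq_one_iff.mp h4
  obtain ⟨N₀, hN₀⟩ : ∃ N₀ : Subgroup G, N₀ = τ.ker.map I.subtype := ⟨_, rfl⟩
  have hNn : N₀.Normal := by
    rw [hN₀]
    constructor
    rintro _ ⟨k, hk, rfl⟩ g
    have hmem : g * (k : G) * g⁻¹ ∈ I := hIn.conj_mem k k.2 g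
    refine ⟨⟨g * (k : G) * g⁻¹, hmem⟩, ?_, rfl⟩
    apply hkermem
    have h2 : orderOf (⟨g * (k : G) * g⁻¹, hmem⟩ : I) = orderOf k := by
      rw [Subgroup.orderOf_mk, ← Subgroup.orderOf_coe]
      exact (MulAut.conj g).orderOf_eq (k : G)
    rw [h2]
    exact hkerodd.of_dvd_nat (Subgroup.orderOf_dvd_natCard _ hk)
  have hNodd : Odd (Nat.card N₀) := by
    rw [hN₀, Subgroup.card_map_of_injective (Subgroup.subtype_injective _)]
    exact hkerodd
  have hcover : ∀ g : G, g ∈ Subgroup.centralizer ({z} : Set G) ⊔ N₀ := by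
    intro g
    obtain ⟨m, hm⟩ := exists_pow_conj hz g
    obtain ⟨k, hk⟩ : ∃ k : G, k = (z * (g * z * g⁻¹)) ^ m := ⟨_, rfl⟩
    rw [← hk] at hm
    have hkI : k ∈ I := by
      rw [hk]
      apply Subgroup.pow_mem
      apply Subgroup.mul_mem _ hzI
      rw [hIdef]
      apply Subgroup.subset_closure
      show orderOf (g * z * g⁻¹) = 2
      rw [← hz2]
      exact (MulAut.conj g).orderOf_eq z
    have hkodd : Odd (orderOf k) := by
      rw [hk]
      exact (odd_orderOf_mul_conj hz g).of_dvd_nat (orderOf_pow_dvd m)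
    have hkN : k ∈ N₀ := by
      rw [hN₀]
      exact ⟨⟨k, hkI⟩, hkermem _ (by rw [Subgroup.orderOf_mk]; exact hkodd), rfl⟩
    have hc : k⁻¹ * g ∈ Subgroup.centralizer ({z} : Set G) := by
      rw [Subgroup.mem_centralizer_singleton_iff]
      calc k⁻¹ * g * z = k⁻¹ * (g * z * g⁻¹) * g := by group
        _ = k⁻¹ * (k * z * k⁻¹) * g := by rw [hm]
        _ = z * (k⁻¹ * g) := by group
    have hgk : g = k * (k⁻¹ * g) := by group
    rw [hgk]
    exact Subgroup.mul_mem _ (Subgroup.mem_sup_right hkN) (Subgroup.mem_sup_left hc)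
  have htop : Subgroup.centralizer ({z} : Set G) ⊔ N₀ = ⊤ := by
    rw [eq_top_iff]
    intro g _
    exact hcover g
  haveI := hNn
  have hdvd := Cfsg.Agent.Lib.Lead.Cores.card_sup_dvd (Subgroup.centralizer ({z} : Set G)) N₀
  rw [htop, Subgroup.card_top] at hdvd
  have hpN : p ∣ Nat.card N₀ := by
    rcases (Nat.Prime.dvd_mul (Fact.out : p.Prime)).mp (hpG.trans hdvd) with h | h
    · exact absurd h hpC
    · exact h
  have hzN : z ∈ Subgroup.normalizer (N₀ : Set G) := by
    rw [Subgroup.mem_normalizer_iff]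
    intro h
    constructor
    · intro hh
      exact hNn.conj_mem h hh z
    · intro hh
      have h1 := hNn.conj_mem _ hh z⁻¹
      have h2 : z⁻¹ * (z * h * z⁻¹) * z⁻¹⁻¹ = h := by group
      rw [h2] at h1
      exact h1
  obtain ⟨x, -, hx, hx'⟩ := InvAct.exists_inv_or_cent z hz2 N₀ hzN hNodd p hpN
  exact ⟨x, hx, hx'⟩

/-- An isolated involution of a finite group of order divisible by the odd prime `p` centralizes
or inverts some element of order `p`. -/
theorem claim : ∀ (n : ℕ) (G : Type u) [Group G] [Finite G], Nat.card G = n →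
    ∀ (z : G), IsIsolatedInvolution z → ∀ (p : ℕ) [Fact p.Prime], p ≠ 2 → p ∣ Nat.card G →
    ∃ x : G, orderOf x = p ∧ (z * x * z⁻¹ = x ∨ z * x * z⁻¹ = x⁻¹) := by
  intro n
  induction n using Nat.strong_induction_on with
  | _ n ih =>
  intro G _ _ hn z hz p _ hp2 hpG
  have hz2 := hz.1
  have hzz : z * z = 1 := mul_self_of_orderOf_two hz2
  have hzi : z⁻¹ = z := inv_eq_self_of_mul_self hzz
  by_cases hpC : p ∣ Nat.card (Subgroup.centralizer ({z} : Set G))
  · exact of_dvd_centralizer z p hpC
  by_cases hs : ∃ s : G, orderOf s = 2 ∧ Commute s z ∧ s ≠ z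
  · obtain ⟨s, hs2, hsz, hsne⟩ := hs
    have hss : s * s = 1 := mul_self_of_orderOf_two hs2
    have hformula := Cfsg.Agent.S1186.result z hz s hs2 hsz
    have key : ∃ s' : G, orderOf s' = 2 ∧ Commute s' z ∧ s' ≠ z ∧
        p ∣ Nat.card {k : G // Odd (orderOf k) ∧ z * k * z⁻¹ = k⁻¹ ∧ Commute k s'} := by
      rw [hformula] at hpG
      rcases (Nat.Prime.dvd_mul (Fact.out : p.Prime)).mp hpG with h | h
      · rcases (Nat.Prime.dvd_mul (Fact.out : p.Prime)).mp h with h' | h'
        · exact absurd h' hpC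
        · refine ⟨s * z, ?_, ?_, ?_, h'⟩
          · apply orderOf_two_of
            · calc s * z * (s * z) = s * (z * s) * z := by group
                _ = s * (s * z) * z := by rw [hsz.eq]
                _ = (s * s) * (z * z) := by group
                _ = 1 := by rw [hss, hzz, one_mul]
            · intro h1
              apply hsne
              rw [← hzi]
              exact eq_inv_of_mul_eq_one_left h1
          · exact hsz.mul_left (Commute.refl z)
          · intro h1
            have h2 : s = 1 := by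
              have h3 : s * z = 1 * z := by rw [one_mul]; exact h1
              exact mul_right_cancel h3
            exact ne_one_of_orderOf_two hs2 h2
      · exact ⟨s, hs2, hsz, hsne, h⟩
    obtain ⟨s', hs'2, hs'z, hs'ne, hpK⟩ := key
    have hs's' : s' * s' = 1 := mul_self_of_orderOf_two hs'2
    have hpH : p ∣ Nat.card (Subgroup.centralizer ({s'} : Set G)) :=
      hpK.trans (card_KH_dvd z hz s' hs'z)
    have hzH : z ∈ Subgroup.centralizer ({s'} : Set G) :=
      Subgroup.mem_centralizer_singleton_iff.mpr hs'z.eq.symm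
    by_cases hH : Subgroup.centralizer ({s'} : Set G) = ⊤
    · have hcent : ∀ g : G, g * s' = s' * g := by
        intro g
        have hg : g ∈ Subgroup.centralizer ({s'} : Set G) := by
          rw [hH]
          exact Subgroup.mem_top g
        exact Subgroup.mem_centralizer_singleton_iff.mp hg
      obtain ⟨Z, hZ⟩ : ∃ Z : Subgroup G, Z = Subgroup.zpowers s' := ⟨_, rfl⟩
      have hZmem : ∀ c ∈ Z, c = 1 ∨ c = s' := by
        intro c hc
        rw [hZ] at hc
        obtain ⟨j, rfl⟩ := Subgroup.mem_zpowers_iff.mp hc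
        rcases Int.even_or_odd' j with ⟨i, hi | hi⟩
        · left
          rw [hi, zpow_mul, zpow_two, hs's', one_zpow]
        · right
          rw [hi, zpow_add, zpow_mul, zpow_two, hs's', one_zpow, one_mul, zpow_one]
      have hZcent : ∀ c ∈ Z, ∀ g : G, g * c = c * g := by
        intro c hc g
        rcases hZmem c hc with rfl | rfl
        · rw [mul_one, one_mul]
        · exact hcent g
      have hZsq : ∀ c ∈ Z, c ^ 2 = 1 := by
        intro c hc
        rcases hZmem c hc with rfl | rfl
        · exact one_pow 2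
        · rw [pow_two]
          exact hs's'
      haveI hZn : Z.Normal := by
        constructor
        intro x hx g
        have h1 : g * x * g⁻¹ = x := by
          rw [hZcent x hx g, mul_inv_cancel_right]
        rw [h1]
        exact hx
      have hZcard : Nat.card Z = 2 := by rw [hZ, Nat.card_zpowers, hs'2]
      have hzZ : z ∉ Z := by
        intro h
        rcases hZmem z h with h1 | h1
        · exact ne_one_of_orderOf_two hz2 h1
        · exact hs'ne h1.symm
      have hquot := (Cfsg.Agent.S1181.result z hz Z hzZ).2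
      have hcardQ : Nat.card (G ⧸ Z) * 2 = Nat.card G := by
        rw [← hZcard]
        exact (Subgroup.card_eq_card_quotient_mul_card_subgroup Z).symm
      have hcardlt : Nat.card (G ⧸ Z) < n := by
        rw [← hn]
        have := Nat.card_pos (α := G ⧸ Z)
        omega
      have hpQ : p ∣ Nat.card (G ⧸ Z) := by
        rw [← hcardQ] at hpG
        rcases (Nat.Prime.dvd_mul (Fact.out : p.Prime)).mp hpG with h | h
        · exact h
        · exfalso
          exact hp2 ((Nat.prime_dvd_prime_iff_eq (Fact.out : p.Prime) Nat.prime_two).mp h)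
      obtain ⟨xb, hxb, hxb'⟩ := ih _ hcardlt (G ⧸ Z) rfl (QuotientGroup.mk z) hquot p hp2 hpQ
      obtain ⟨x₀, rfl⟩ := QuotientGroup.mk_surjective xb
      have hx0p : x₀ ^ p ∈ Z := by
        rw [← QuotientGroup.eq_one_iff, QuotientGroup.mk_pow, ← hxb, pow_orderOf_eq_one]
      have hx02 : x₀ ^ 2 ∉ Z := by
        intro h
        rw [← QuotientGroup.eq_one_iff, QuotientGroup.mk_pow] at h
        have h1 : orderOf (QuotientGroup.mk x₀ : G ⧸ Z) ∣ 2 := orderOf_dvd_of_pow_eq_one h
        rw [hxb] at h1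
        exact hp2 ((Nat.prime_dvd_prime_iff_eq (Fact.out : p.Prime) Nat.prime_two).mp h1)
      have hord : orderOf (x₀ ^ 2) = p := by
        apply orderOf_eq_prime
        · rw [← pow_mul, mul_comm, pow_mul]
          exact hZsq _ hx0p
        · intro h
          apply hx02
          rw [h]
          exact Subgroup.one_mem Z
      refine ⟨x₀ ^ 2, hord, ?_⟩
      have hconj : z * x₀ ^ 2 * z⁻¹ = (z * x₀ * z⁻¹) ^ 2 := (conj_pow (a := z) (b := x₀) (i := 2)).symm
      rw [hconj]
      rcases hxb' with h | h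
      · left
        have h1 : (QuotientGroup.mk (z * x₀ * z⁻¹) : G ⧸ Z) = QuotientGroup.mk x₀ := h
        rw [QuotientGroup.eq] at h1
        obtain ⟨c, hc⟩ : ∃ c : G, c = (z * x₀ * z⁻¹)⁻¹ * x₀ := ⟨_, rfl⟩
        rw [← hc] at h1
        have h2 : z * x₀ * z⁻¹ = x₀ * c⁻¹ := by rw [hc]; group
        have hcc : Commute x₀ c⁻¹ := hZcent c⁻¹ (Z.inv_mem h1) x₀
        rw [h2, hcc.mul_pow, hZsq c⁻¹ (Z.inv_mem h1), mul_one]
      · right
        have h1 : (QuotientGroup.mk (z * x₀ * z⁻¹) : G ⧸ Z) = QuotientGroup.mk x₀⁻¹ := h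
        rw [QuotientGroup.eq] at h1
        obtain ⟨c, hc⟩ : ∃ c : G, c = (z * x₀ * z⁻¹)⁻¹ * x₀⁻¹ := ⟨_, rfl⟩
        rw [← hc] at h1
        have h2 : z * x₀ * z⁻¹ = x₀⁻¹ * c⁻¹ := by rw [hc]; group
        have hcc : Commute x₀⁻¹ c⁻¹ := hZcent c⁻¹ (Z.inv_mem h1) x₀⁻¹
        rw [h2, hcc.mul_pow, hZsq c⁻¹ (Z.inv_mem h1), mul_one, inv_pow]
    · have hcard : Nat.card (Subgroup.centralizer ({s'} : Set G)) < n := by
        rw [← hn]
        have h1 := Subgroup.one_lt_index_of_ne_top hH
        have h2 := Subgroup.card_mul_index (Subgroup.centralizer ({s'} : Set G))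
        have h3 := Nat.card_pos (α := Subgroup.centralizer ({s'} : Set G))
        nlinarith
      obtain ⟨x, hx, hx'⟩ := ih _ hcard (Subgroup.centralizer ({s'} : Set G)) rfl ⟨z, hzH⟩
        (isolated_subgroup hz _ hzH) p hp2 hpH
      refine ⟨(x : G), by rw [Subgroup.orderOf_coe]; exact hx, ?_⟩
      rcases hx' with h | h
      · left
        exact congrArg Subtype.val h
      · right
        exact congrArg Subtype.val h
  · have hpz : IsPGroup 2 (Subgroup.zpowers z) :=
      IsPGroup.of_card (n := 1) (by rw [Nat.card_zpowers, hz2]; norm_num)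
    obtain ⟨S, hS⟩ := hpz.exists_le_sylow
    have hzS : z ∈ (S : Subgroup G) := hS (Subgroup.mem_zpowers z)
    have huniq : ∀ y ∈ (S : Subgroup G), orderOf y = 2 → y = z := by
      intro y hy hy2
      by_contra hne
      apply hs
      refine ⟨y, hy2, ?_, hne⟩
      haveI : Fact (Nat.Prime 2) := ⟨Nat.prime_two⟩
      have hw : z * (y * z * y⁻¹) ∈ (S : Subgroup G) :=
        Subgroup.mul_mem _ hzS (Subgroup.mul_mem _ (Subgroup.mul_mem _ hy hzS)
          (Subgroup.inv_mem _ hy))
      obtain ⟨k, hk⟩ := (IsPGroup.iff_orderOf.mp S.2) ⟨_, hw⟩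
      rw [Subgroup.orderOf_mk] at hk
      have hodd := odd_orderOf_mul_conj hz y
      have hk0 : k = 0 := by
        by_contra hk0
        rw [hk] at hodd
        have h2 : 2 ∣ 2 ^ k := dvd_pow_self 2 hk0
        exact (Nat.not_even_iff_odd.mpr hodd) (even_iff_two_dvd.mpr h2)
      rw [hk0, pow_zero, orderOf_eq_one_iff] at hk
      have h1 : y * z * y⁻¹ = z := by
        have h2 : y * z * y⁻¹ = z⁻¹ := eq_inv_of_mul_eq_one_right hk
        rw [h2, hzi]
      show y * z = z * y
      calc y * z = (y * z * y⁻¹) * y := by group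
        _ = z * y := by rw [h1]
    exact ui_case z hz S hzS huniq p hpG

end Cfsg.Agent.Lib.Helper29.IsoSyl
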