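import Mathlib

set_option autoImplicit false

/-!
Nilpotent minimal covers: abelian Sylow subgroups (Bryce–Serena style lemmas).
-/

namespace Cfsg.Agent.Lib.Helper29.NilCover

open scoped Pointwise

variable {G : Type*} [Group G]

theorem mem_smul_syl {p : ℕ} (S : Sylow p G) (h x : G) :
    x ∈ (h • S : Sylow p G) ↔ h⁻¹ * x * h ∈ S := by
  have h1 : x ∈ (h • S : Sylow p G) ↔ x ∈ MulAut.conj h • (S : Subgroup G) := Iff.rfl
  rw [h1, Subgroup.mem_pointwise_smul_iff_inv_smul_mem]
  have h2 : (MulAut.conj h)⁻¹ • x = h⁻¹ * x * h := by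
    rw [MulAut.smul_def, MulAut.conj_inv_apply]
  rw [h2]
  exact Iff.rfl

/-- the standing hypotheses: trivial centre, a nilpotent minimal cover, abelian Sylow `p`. -/
structure Ctx (G : Type*) [Group G] (𝓐 : Finset (Subgroup G)) (p : ℕ) : Prop where
  hZ : Subgroup.center G = ⊥
  hprop : ∀ A ∈ 𝓐, A ≠ ⊤
  hcov : ∀ g : G, ∃ A ∈ 𝓐, g ∈ A
  hmin : ∀ 𝓑 : Finset (Subgroup G),
    (∀ A ∈ 𝓑, A ≠ ⊤) ∧ (∀ g : G, ∃ A ∈ 𝓑, g ∈ A) → 𝓐.card ≤ 𝓑.card
  hnil : ∀ A ∈ 𝓐, Group.IsNilpotent ↥A
  hab : ∀ Q : Sylow p G, ∀ a ∈ Q, ∀ b ∈ Q, a * b = b * a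

/-- in a finite nilpotent group an abelian Sylow subgroup is central -/
theorem nilp_central {H : Type*} [Group H] [Finite H] (hn : Group.IsNilpotent H) {p : ℕ}
    [Fact p.Prime] (Q : Sylow p H) (hQ : ∀ a ∈ Q, ∀ b ∈ Q, a * b = b * a) (x : H) (hx : x ∈ Q) :
    ∀ a : H, a * x = x * a := by
  have hnorm : ∀ (q : ℕ) [Fact q.Prime] (R : Sylow q H), (R : Subgroup H).Normal :=
    ((isNilpotent_of_finite_tfae (G := H)).out 0 3).1 hn
  have hC : Subgroup.centralizer ({x} : Set H) = ⊤ := by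
    apply Subgroup.eq_top_of_card_eq
    apply Nat.dvd_antisymm (Subgroup.card_subgroup_dvd_card _)
    rw [← Nat.factorization_prime_le_iff_dvd Nat.card_pos.ne' Nat.card_pos.ne']
    intro q hq
    haveI : Fact q.Prime := ⟨hq⟩
    rw [← Nat.Prime.pow_dvd_iff_le_factorization hq Nat.card_pos.ne']
    obtain ⟨R, hR⟩ : ∃ R : Sylow q H,
        (R : Subgroup H) ≤ Subgroup.centralizer ({x} : Set H) := by
      by_cases hqp : q = p
      · subst hqp
        refine ⟨Q, fun a ha => ?_⟩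
        rw [Subgroup.mem_centralizer_iff]
        intro y hy
        rw [Set.mem_singleton_iff] at hy; subst hy
        exact hQ _ hx _ ha
      · obtain ⟨R⟩ : Nonempty (Sylow q H) := inferInstance
        refine ⟨R, fun a ha => ?_⟩
        rw [Subgroup.mem_centralizer_iff]
        intro y hy
        rw [Set.mem_singleton_iff] at hy; subst hy
        exact (Subgroup.commute_of_normal_of_disjoint _ _ (hnorm p Q) (hnorm q R)
          (IsPGroup.disjoint_of_ne p q (Ne.symm hqp) _ _ Q.2 R.2) y a hx ha).eq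
    have h1 := Subgroup.card_dvd_of_le hR
    rw [Sylow.card_eq_multiplicity] at h1
    exact h1
  intro a
  have ha : a ∈ Subgroup.centralizer ({x} : Set H) := hC ▸ Subgroup.mem_top a
  exact (Subgroup.mem_centralizer_iff.1 ha x rfl).symm

variable [Finite G] {𝓐 : Finset (Subgroup G)} {p : ℕ} [Fact p.Prime]

/-- two members of a minimal cover inside a common proper subgroup coincide -/
theorem eq_of_le_proper (h : Ctx G 𝓐 p) {A B H : Subgroup G} (hA : A ∈ 𝓐) (hB : B ∈ 𝓐)
    (hAH : A ≤ H) (hBH : B ≤ H) (hH : H ≠ ⊤) : A = B := by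
  classical
  by_contra hne
  have hB' : B ∈ 𝓐.erase A := Finset.mem_erase.2 ⟨fun h => hne h.symm, hB⟩
  have hcard := h.hmin (insert H ((𝓐.erase A).erase B)) ⟨?_, ?_⟩
  · have h1 := Finset.card_insert_le H ((𝓐.erase A).erase B)
    have h2 := Finset.card_erase_of_mem hB'
    have h3 := Finset.card_erase_of_mem hA
    have h4 : 0 < (𝓐.erase A).card := Finset.card_pos.2 ⟨B, hB'⟩
    omega
  · intro C hC
    rcases Finset.mem_insert.1 hC with rfl | hC
    · exact hH
    · exact h.hprop C (Finset.mem_of_mem_erase (Finset.mem_of_mem_erase hC))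
  · intro g
    obtain ⟨C, hC, hg⟩ := h.hcov g
    by_cases hCA : C = A
    · exact ⟨H, Finset.mem_insert_self _ _, hAH (hCA ▸ hg)⟩
    by_cases hCB : C = B
    · exact ⟨H, Finset.mem_insert_self _ _, hBH (hCB ▸ hg)⟩
    · exact ⟨C, Finset.mem_insert_of_mem
        (Finset.mem_erase.2 ⟨hCB, Finset.mem_erase.2 ⟨hCA, hC⟩⟩), hg⟩

/-- a member containing an element of a Sylow `p`-subgroup centralises it -/
theorem le_centralizer (h : Ctx G 𝓐 p) (P : Sylow p G) {A : Subgroup G} (hA : A ∈ 𝓐) {x : G}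
    (hxP : x ∈ P) (hxA : x ∈ A) : A ≤ Subgroup.centralizer ({x} : Set G) := by
  intro a ha
  rw [Subgroup.mem_centralizer_iff]
  intro y hy
  rw [Set.mem_singleton_iff] at hy; subst hy
  have hpg : IsPGroup p ((P : Subgroup G).subgroupOf A) := P.2.comap_subtype
  obtain ⟨Q, hQ⟩ := hpg.exists_le_sylow
  have hQab : ∀ u ∈ Q, ∀ v ∈ Q, u * v = v * u := by
    intro u hu v hv
    have hmap : IsPGroup p ((Q : Subgroup A).map A.subtype) := Q.2.map _
    obtain ⟨P', hP'⟩ := hmap.exists_le_sylow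
    have hu' : (u : G) ∈ (P' : Subgroup G) := hP' (Subgroup.mem_map_of_mem _ hu)
    have hv' : (v : G) ∈ (P' : Subgroup G) := hP' (Subgroup.mem_map_of_mem _ hv)
    apply Subtype.ext
    exact h.hab P' _ hu' _ hv'
  have hyQ : (⟨y, hxA⟩ : A) ∈ Q := hQ (Subgroup.mem_subgroupOf.2 hxP)
  have := nilp_central (h.hnil A hA) Q hQab ⟨y, hxA⟩ hyQ ⟨a, ha⟩
  exact (congrArg Subtype.val this).symm

/-- a nontrivial element of a Sylow `p`-subgroup lies in exactly one member -/
theorem unique_member (h : Ctx G 𝓐 p) (P : Sylow p G) {A B : Subgroup G} (hA : A ∈ 𝓐)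
    (hB : B ∈ 𝓐) {x : G} (hxP : x ∈ P) (hx1 : x ≠ 1) (hxA : x ∈ A) (hxB : x ∈ B) : A = B := by
  refine eq_of_le_proper h hA hB (le_centralizer h P hA hxP hxA)
    (le_centralizer h P hB hxP hxB) ?_
  intro htop
  apply hx1
  have hc : x ∈ Subgroup.center G := by
    rw [Subgroup.mem_center_iff]
    intro g
    have hg : g ∈ Subgroup.centralizer ({x} : Set G) := htop ▸ Subgroup.mem_top g
    exact (Subgroup.mem_centralizer_iff.1 hg x rfl).symm
  rw [h.hZ] at hc
  exact Subgroup.mem_bot.1 hc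

/-- cyclic, or not of exponent `p` -/
def Good (p : ℕ) (P : Sylow p G) : Prop :=
  (∃ x : G, ∀ y ∈ P, y ∈ Subgroup.zpowers x) ∨ (∃ x ∈ P, x ^ p ≠ 1)

theorem good_smul {P : Sylow p G} (hP : Good p P) (g : G) : Good p (g • P) := by
  rcases hP with ⟨x, hx⟩ | ⟨x, hxP, hxp⟩
  · left
    refine ⟨g * x * g⁻¹, fun y hy => ?_⟩
    rw [mem_smul_syl] at hy
    obtain ⟨k, hk⟩ := Subgroup.mem_zpowers_iff.1 (hx _ hy)
    refine Subgroup.mem_zpowers_iff.2 ⟨k, ?_⟩
    rw [conj_zpow, hk]; group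
  · right
    refine ⟨g * x * g⁻¹, ?_, ?_⟩
    · rw [mem_smul_syl]
      have : g⁻¹ * (g * x * g⁻¹) * g = x := by group
      rw [this]; exact hxP
    · rw [conj_pow]
      intro h1
      apply hxp
      have : x ^ p = g⁻¹ * (g * x ^ p * g⁻¹) * g := by group
      rw [this, h1]; group

/-- a good Sylow subgroup lies in a member -/
theorem exists_member (h : Ctx G 𝓐 p) (P : Sylow p G) (hP : Good p P) :
    ∃ A ∈ 𝓐, (P : Subgroup G) ≤ A := by
  rcases hP with ⟨x, hx⟩ | ⟨x, hxP, hxp⟩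
  · obtain ⟨A, hA, hxA⟩ := h.hcov x
    exact ⟨A, hA, fun y hy => (Subgroup.zpowers_le.2 hxA) (hx y hy)⟩
  · obtain ⟨A, hA, hwA⟩ := h.hcov (x ^ p)
    have hwP : x ^ p ∈ P := pow_mem hxP p
    refine ⟨A, hA, ?_⟩
    have hbase : ∀ u ∈ P, u ^ p = 1 → u * x ∈ A := by
      intro u hu hup
      obtain ⟨B, hB, huB⟩ := h.hcov (u * x)
      have hcomm : Commute u x := h.hab P u hu x hxP
      have h1 : (u * x) ^ p = x ^ p := by
        rw [hcomm.mul_pow, hup, one_mul]
      have h2 : x ^ p ∈ B := h1 ▸ pow_mem huB p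
      have hAB := unique_member h P hA hB hwP hxp hwA h2
      rw [hAB]; exact huB
    have hxA : x ∈ A := by
      have := hbase 1 (one_mem _) (one_pow _)
      rwa [one_mul] at this
    have hbase' : ∀ u ∈ P, u ^ p = 1 → u ∈ A := by
      intro u hu hup
      have h2 := hbase u hu hup
      have h3 : u = (u * x) * x⁻¹ := by group
      rw [h3]; exact mul_mem h2 (inv_mem hxA)
    have hind : ∀ k : ℕ, ∀ u ∈ P, u ^ p ^ k = 1 → u ∈ A := by
      intro k
      induction k with
      | zero =>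
        intro u _ hu
        rw [pow_zero, pow_one] at hu
        rw [hu]; exact one_mem _
      | succ k ih =>
        intro u hu huk
        have hv : (u ^ p) ^ p ^ k = 1 := by
          rw [← pow_mul, ← pow_succ']; exact huk
        have hvA : u ^ p ∈ A := ih (u ^ p) (pow_mem hu p) hv
        by_cases hv1 : u ^ p = 1
        · exact hbase' u hu hv1
        · obtain ⟨B, hB, huB⟩ := h.hcov u
          have hAB := unique_member h P hA hB (pow_mem hu p) hv1 hvA (pow_mem huB p)
          rw [hAB]; exact huB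
    intro u hu
    obtain ⟨k, hk⟩ := P.isPGroup' ⟨u, hu⟩
    have hk' : u ^ p ^ k = 1 := by
      have := congrArg Subtype.val hk
      simpa using this
    exact hind k u hu hk'

/-- a `p`-element normalising a Sylow `p`-subgroup lies in it -/
theorem pelt_mem (P : Sylow p G) {c : G}
    (hc : c ∈ Subgroup.normalizer ((P : Subgroup G) : Set G)) (hpc : ∃ k : ℕ, c ^ p ^ k = 1) :
    c ∈ P := by
  obtain ⟨k, hk⟩ := hpc
  have hz : IsPGroup p (Subgroup.zpowers c) := by
    rintro ⟨g, hg⟩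
    obtain ⟨i, rfl⟩ := Subgroup.mem_zpowers_iff.1 hg
    refine ⟨k, ?_⟩
    apply Subtype.ext
    simp only [Subgroup.coe_pow, Subgroup.coe_one]
    rw [← zpow_natCast, ← zpow_mul, mul_comm, zpow_mul, zpow_natCast, hk, one_zpow]
  have hn : Subgroup.zpowers c ≤ Subgroup.normalizer ((P : Subgroup G) : Set G) := by
    rw [Subgroup.zpowers_le]; exact hc
  have hsup : IsPGroup p (Subgroup.zpowers c ⊔ (P : Subgroup G) : Subgroup G) :=
    IsPGroup.to_sup_of_normal_right' hz P.2 hn
  have heq := P.is_maximal' hsup le_sup_right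
  have hxm : c ∈ (Subgroup.zpowers c ⊔ (P : Subgroup G) : Subgroup G) :=
    (le_sup_left : Subgroup.zpowers c ≤ _) (Subgroup.mem_zpowers c)
  rw [heq] at hxm
  exact hxm

theorem pelt_of_mem (P : Sylow p G) {c : G} (hc : c ∈ P) : ∃ k : ℕ, c ^ p ^ k = 1 := by
  obtain ⟨k, hk⟩ := P.isPGroup' ⟨c, hc⟩
  refine ⟨k, ?_⟩
  have := congrArg Subtype.val hk
  simpa using this

/-- the member containing `P` is the centraliser of `P` -/
theorem centralizer_eq (h : Ctx G 𝓐 p) (P : Sylow p G) (hP1 : (P : Subgroup G) ≠ ⊥)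
    {A : Subgroup G} (hA : A ∈ 𝓐) (hPA : (P : Subgroup G) ≤ A) :
    Subgroup.centralizer ((P : Subgroup G) : Set G) = A := by
  apply le_antisymm
  · intro c hc
    have hcm : c ^ (P : Subgroup G).index ∈ P := by
      apply pelt_mem P
      · exact Subgroup.centralizer_le_normalizer _ (pow_mem hc _)
      · obtain ⟨n, hn⟩ := IsPGroup.iff_card.1 P.2
        refine ⟨n, ?_⟩
        rw [← hn, ← pow_mul, mul_comm, Subgroup.card_mul_index, pow_card_eq_one']
    obtain ⟨x, hxP, hx1⟩ : ∃ x ∈ P, x ≠ 1 := by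
      by_contra hcon
      apply hP1
      rw [Subgroup.eq_bot_iff_forall]
      intro y hy
      by_contra hy1
      exact hcon ⟨y, hy, hy1⟩
    by_cases hcm1 : c ^ (P : Subgroup G).index = 1
    · obtain ⟨B, hB, hcxB⟩ := h.hcov (c * x)
      have hcomm : Commute c x := (Subgroup.mem_centralizer_iff.1 hc x hxP).symm
      have h1 : (c * x) ^ (P : Subgroup G).index = x ^ (P : Subgroup G).index := by
        rw [hcomm.mul_pow, hcm1, one_mul]
      have hxm1 : x ^ (P : Subgroup G).index ≠ 1 := by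
        intro hxm
        have hd1 : orderOf x ∣ (P : Subgroup G).index := orderOf_dvd_of_pow_eq_one hxm
        have hd2 : orderOf x ∣ Nat.card (P : Subgroup G) := by
          have := orderOf_dvd_natCard (⟨x, hxP⟩ : (P : Subgroup G))
          rwa [Subgroup.orderOf_mk] at this
        have hcop : (Nat.card (P : Subgroup G)).Coprime (P : Subgroup G).index :=
          P.card_coprime_index
        have : orderOf x = 1 := Nat.eq_one_of_dvd_coprimes hcop hd2 hd1
        exact hx1 (orderOf_eq_one_iff.1 this)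
      have h2 : x ^ (P : Subgroup G).index ∈ B := h1 ▸ pow_mem hcxB _
      have hAB := unique_member h P hA hB (pow_mem hxP _) hxm1 (hPA (pow_mem hxP _)) h2
      have h3 : c = (c * x) * x⁻¹ := by group
      rw [h3]
      exact mul_mem (hAB ▸ hcxB) (inv_mem (hPA hxP))
    · obtain ⟨B, hB, hcB⟩ := h.hcov c
      have hAB := unique_member h P hA hB hcm hcm1 (hPA hcm) (pow_mem hcB _)
      rw [hAB]; exact hcB
  · intro a ha
    rw [Subgroup.mem_centralizer_iff]
    intro u hu
    have h1 := le_centralizer h P hA hu (hPA hu) ha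
    exact Subgroup.mem_centralizer_iff.1 h1 u rfl

/-- an element conjugating `A` into itself normalises `P` -/
theorem mem_normalizer_of_conj (P : Sylow p G) {A : Subgroup G} (hPA : (P : Subgroup G) ≤ A)
    (hAN : A ≤ Subgroup.normalizer ((P : Subgroup G) : Set G)) {g : G}
    (hg : ∀ a ∈ A, g⁻¹ * a * g ∈ A) : g ∈ Subgroup.normalizer ((P : Subgroup G) : Set G) := by
  have hle : (P : Subgroup G) ≤ ((g • P : Sylow p G) : Subgroup G) := by
    intro u hu
    show u ∈ (g • P : Sylow p G)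
    rw [mem_smul_syl]
    apply pelt_mem P (hAN (hg u (hPA hu)))
    obtain ⟨k, hk⟩ := pelt_of_mem P hu
    refine ⟨k, ?_⟩
    have : g⁻¹ * u * g = g⁻¹ * u * g⁻¹⁻¹ := by rw [inv_inv]
    rw [this, conj_pow, hk]; group
  have heq : ((g • P : Sylow p G) : Subgroup G) = P := P.is_maximal' (g • P).2 hle
  exact Sylow.smul_eq_iff_mem_normalizer.1 (Sylow.ext heq)

/-- the main structure: the member `A` with all its properties -/
theorem main (h : Ctx G 𝓐 p) (P : Sylow p G) (hP : Good p P)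
    (hnn : ¬ (P : Subgroup G).Normal) :
    ∃ A ∈ 𝓐, (P : Subgroup G) ≤ A ∧ Subgroup.centralizer ((P : Subgroup G) : Set G) = A ∧
      IsCoatom (Subgroup.normalizer ((P : Subgroup G) : Set G)) ∧
      (∀ M : Subgroup G, IsCoatom M → A ≤ M →
        M = Subgroup.normalizer ((P : Subgroup G) : Set G)) ∧
      (∀ g : G, g ∉ Subgroup.normalizer ((P : Subgroup G) : Set G) →
        ¬ p ∣ Nat.card ↥(Subgroup.normalizer ((P : Subgroup G) : Set G) ⊓
          (Subgroup.normalizer ((P : Subgroup G) : Set G)).map (MulAut.conj g).toMonoidHom)) := by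
  have hP1 : ∀ g : G, ((g • P : Sylow p G) : Subgroup G) ≠ ⊥ := by
    intro g hbot
    apply hnn
    have : (P : Subgroup G) = ⊥ := by
      rw [Subgroup.eq_bot_iff_forall]
      intro x hx
      have h1 : g * x * g⁻¹ ∈ (g • P : Sylow p G) := by
        rw [mem_smul_syl]
        have : g⁻¹ * (g * x * g⁻¹) * g = x := by group
        rw [this]; exact hx
      have h2 : g * x * g⁻¹ ∈ ((g • P : Sylow p G) : Subgroup G) := h1
      rw [hbot, Subgroup.mem_bot] at h2
      have : x = g⁻¹ * (g * x * g⁻¹) * g := by group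
      rw [this, h2]; group
    rw [this]; infer_instance
  have hP1' : (P : Subgroup G) ≠ ⊥ := by
    have := hP1 1
    rwa [one_smul] at this
  obtain ⟨A, hA, hPA⟩ := exists_member h P hP
  have hCA := centralizer_eq h P hP1' hA hPA
  have hAN : A ≤ Subgroup.normalizer ((P : Subgroup G) : Set G) :=
    hCA ▸ Subgroup.centralizer_le_normalizer _
  -- the member attached to a conjugate
  have hconj : ∀ g : G, ∃ B ∈ 𝓐, ∀ b : G, b ∈ B ↔ g⁻¹ * b * g ∈ A := by
    intro g
    obtain ⟨B, hB, hPB⟩ := exists_member h (g • P) (good_smul hP g)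
    have hCB := centralizer_eq h (g • P) (hP1 g) hB hPB
    refine ⟨B, hB, fun b => ?_⟩
    rw [← hCB, ← hCA, Subgroup.mem_centralizer_iff, Subgroup.mem_centralizer_iff]
    constructor
    · intro hb u hu
      have hu' : g * u * g⁻¹ ∈ ((g • P : Sylow p G) : Subgroup G) := by
        show g * u * g⁻¹ ∈ (g • P : Sylow p G)
        rw [mem_smul_syl]
        have : g⁻¹ * (g * u * g⁻¹) * g = u := by group
        rw [this]; exact hu
      have h1 := hb _ hu'
      have h2 : u * (g⁻¹ * b * g) = g⁻¹ * ((g * u * g⁻¹) * b) * g := by group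
      rw [h2, h1]; group
    · intro hb u hu
      have hu' : g⁻¹ * u * g ∈ P := (mem_smul_syl P g u).1 hu
      have h1 := hb _ hu'
      have h2 : u * b = g * ((g⁻¹ * u * g) * (g⁻¹ * b * g)) * g⁻¹ := by group
      rw [h2, h1]; group
  have hnorm : ∀ g : G, (∀ b : G, b ∈ A ↔ g⁻¹ * b * g ∈ A) →
      g ∈ Subgroup.normalizer ((P : Subgroup G) : Set G) := fun g hg =>
    mem_normalizer_of_conj P hPA hAN (fun a ha => (hg a).1 ha)
  have hNtop : Subgroup.normalizer ((P : Subgroup G) : Set G) ≠ ⊤ := by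
    intro htop
    exact hnn (Subgroup.normalizer_eq_top_iff.1 htop)
  have hmax : ∀ M : Subgroup G, IsCoatom M → A ≤ M →
      M = Subgroup.normalizer ((P : Subgroup G) : Set G) := by
    intro M hM hAM
    have hMN : M ≤ Subgroup.normalizer ((P : Subgroup G) : Set G) := by
      intro m hm
      obtain ⟨B, hB, hBm⟩ := hconj m
      have hBM : B ≤ M := by
        intro b hb
        have h1 : m⁻¹ * b * m ∈ M := hAM ((hBm b).1 hb)
        have h2 : b = m * (m⁻¹ * b * m) * m⁻¹ := by group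
        rw [h2]
        exact mul_mem (mul_mem hm h1) (inv_mem hm)
      have hAB := eq_of_le_proper h hA hB hAM hBM hM.1
      apply hnorm m
      intro b
      rw [← hBm b, hAB]
    by_contra hne
    exact hNtop (hM.2 _ (lt_of_le_of_ne hMN hne))
  refine ⟨A, hA, hPA, hCA, ?_, hmax, ?_⟩
  · rcases eq_top_or_exists_le_coatom A with htop | ⟨M, hM, hAM⟩
    · exact absurd htop (h.hprop A hA)
    · rw [← hmax M hM hAM]; exact hM
  · intro g hg hdvd
    apply hg
    obtain ⟨u, hu⟩ := exists_prime_orderOf_dvd_card' p hdvd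
    have hu1 : (u : G) ≠ 1 := by
      intro h1
      have : u = 1 := Subtype.ext h1
      rw [this, orderOf_one] at hu
      exact (Fact.out : p.Prime).one_lt.ne hu
    have hup : (u : G) ^ p ^ 1 = 1 := by
      have h1 : u ^ orderOf u = 1 := pow_orderOf_eq_one u
      rw [hu] at h1
      rw [pow_one, ← Subgroup.coe_pow, h1]; rfl
    have huN := u.2.1
    have huN' := u.2.2
    obtain ⟨n, hn, hnu⟩ := Subgroup.mem_map.1 huN'
    have hnu' : g * n * g⁻¹ = (u : G) := hnu
    have huP : (u : G) ∈ P := pelt_mem P huN ⟨1, hup⟩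
    have hnP : n ∈ P := by
      apply pelt_mem P hn
      refine ⟨1, ?_⟩
      have : n = g⁻¹ * (u : G) * g⁻¹⁻¹ := by rw [← hnu']; group
      rw [this, conj_pow, hup]; group
    obtain ⟨B, hB, hBg⟩ := hconj g
    have huB : (u : G) ∈ B := by
      rw [hBg, ← hnu']
      have : g⁻¹ * (g * n * g⁻¹) * g = n := by group
      rw [this]; exact hPA hnP
    have hAB := unique_member h P hA hB huP hu1 (hPA huP) huB
    apply hnorm g
    intro b
    rw [← hBg b, hAB]

/-- an abelian Sylow subgroup makes all Sylow subgroups abelian -/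
theorem ab_all (P : Sylow p G) (hab : ∀ a ∈ P, ∀ b ∈ P, a * b = b * a) :
    ∀ Q : Sylow p G, ∀ a ∈ Q, ∀ b ∈ Q, a * b = b * a := by
  intro Q a ha b hb
  obtain ⟨g, hg⟩ := MulAction.exists_smul_eq G P Q
  rw [← hg, mem_smul_syl] at ha hb
  have h1 := hab _ ha _ hb
  have h2 : a * b = g * ((g⁻¹ * a * g) * (g⁻¹ * b * g)) * g⁻¹ := by group
  rw [h2, h1]; group

theorem comm_of_cyclic (P : Sylow p G) (hc : IsCyclic ↥(P : Subgroup G)) :
    ∀ a ∈ P, ∀ b ∈ P, a * b = b * a := by
  obtain ⟨g, hg⟩ := hc.exists_generator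
  intro a ha b hb
  obtain ⟨i, hi⟩ := Subgroup.mem_zpowers_iff.1 (hg ⟨a, ha⟩)
  obtain ⟨j, hj⟩ := Subgroup.mem_zpowers_iff.1 (hg ⟨b, hb⟩)
  have h1 : (⟨a, ha⟩ : (P : Subgroup G)) * ⟨b, hb⟩ = ⟨b, hb⟩ * ⟨a, ha⟩ := by
    rw [← hi, ← hj]
    exact (Commute.zpow_zpow_self g i j).eq
  exact congrArg Subtype.val h1

theorem comm_of_isMulCommutative (P : Sylow p G) (hc : IsMulCommutative ↥(P : Subgroup G)) :
    ∀ a ∈ P, ∀ b ∈ P, a * b = b * a := by
  intro a ha b hb
  have h1 : (⟨a, ha⟩ : (P : Subgroup G)) * ⟨b, hb⟩ = ⟨b, hb⟩ * ⟨a, ha⟩ :=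
    hc.is_comm.comm _ _
  exact congrArg Subtype.val h1

theorem good_of_cyclic (P : Sylow p G) (hc : IsCyclic ↥(P : Subgroup G)) : Good p P := by
  obtain ⟨g, hg⟩ := hc.exists_generator
  left
  refine ⟨(g : G), fun y hy => ?_⟩
  obtain ⟨i, hi⟩ := Subgroup.mem_zpowers_iff.1 (hg ⟨y, hy⟩)
  refine Subgroup.mem_zpowers_iff.2 ⟨i, ?_⟩
  have := congrArg Subtype.val hi
  simpa using this

theorem good_of_not_exp (P : Sylow p G) (hc : ¬ ∀ a ∈ (P : Subgroup G), a ^ p = 1) :
    Good p P := by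
  right
  by_contra hcon
  apply hc
  intro a ha
  by_contra h1
  exact hcon ⟨a, ha, h1⟩

end Cfsg.Agent.Lib.Helper29.NilCover
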