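import Mathlib
import Cfsg.Agent.S3762
import Cfsg.Agent.Lib.Helper20.ESpecial
import Cfsg.Agent.Lib.Helper27.PHallA
import Cfsg.Agent.Lib.Helper27.PHallC
import Cfsg.Agent.Lib.Helper5.LargeEx2
import Cfsg.Agent.Lib.Helper9.Components
import Cfsg.Agent.Lib.Helper29.SympConj

set_option autoImplicit false

namespace Cfsg.Agent.Lib.Helper29.SympGlue

open scoped commutatorElement

theorem symp_facts {T : Type*} [Group T] [Finite T] (hP : IsPGroup 2 T)
    (hS : ∀ A : Subgroup T, A.Characteristic → IsMulCommutative A → IsCyclic A)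
    (h4 : ∀ t : T, t ^ 4 = 1) (z : T) (hz : z ∈ Subgroup.center T) (hz2 : z * z = 1)
    (hz1 : z ≠ 1) :
    (∀ w ∈ Subgroup.center T, w * w = 1 → w = 1 ∨ w = z) ∧ (∀ t : T, t * t = 1 ∨ t * t = z) ∧
      (∀ t t' : T, t * t' = t' * t ∨ t * t' = t' * t * z) := by
  classical
  haveI : Fact (Nat.Prime 2) := ⟨Nat.prime_two⟩
  have hcyc : IsCyclic (Subgroup.center T) := hS _ inferInstance inferInstance
  have hcen : ∀ w ∈ Subgroup.center T, w * w = 1 → w = 1 ∨ w = z := by
    intro w hw hww
    have h1 := Cfsg.Agent.Lib.Helper27.PHall.cyc_unique (X := Subgroup.center T) (p := 2)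
      ⟨w, hw⟩ ⟨z, hz⟩ (by apply Subtype.ext; simp [pow_two, hww])
      (by apply Subtype.ext; simp [pow_two, hz2])
      (by intro h; apply hz1; exact congrArg Subtype.val h)
    have hzz : (⟨z, hz⟩ : Subgroup.center T) * ⟨z, hz⟩ = 1 := by
      apply Subtype.ext; simp [hz2]
    rcases (Cfsg.Agent.Lib.Helper5.LargeEx.mem_zpowers_two hzz).mp h1 with h | h
    · left; exact congrArg Subtype.val h
    · right; exact congrArg Subtype.val h
  obtain ⟨E, R, hc, htop, hE, hR⟩ := Cfsg.Agent.S3762.result (G := T) (p := 2) hP hS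
  have hdec := Cfsg.Agent.Lib.Helper27.PHall.exists_mul_of_sup_eq_top E R hc htop
  have hR4 : ∀ r : R, r ^ 4 = 1 := by
    intro r
    apply Subtype.ext
    rw [Subgroup.coe_pow]
    exact h4 _
  have hRc : IsCyclic R := by
    rcases hR with h | ⟨_, h16, h | h | h⟩
    · exact h
    · exfalso
      obtain ⟨m, ⟨e⟩⟩ := h
      have h1 : (DihedralGroup.r (1 : ZMod m)) ^ 4 = 1 := by
        have h2 := hR4 (e.symm (DihedralGroup.r 1))
        have := congrArg e h2
        simpa using this
      have h2 : m ∣ 4 := by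
        have := orderOf_dvd_of_pow_eq_one h1
        rwa [DihedralGroup.orderOf_r_one] at this
      have h3 : m ≤ 4 := Nat.le_of_dvd (by norm_num) h2
      have h5 : Nat.card R = 2 * m := by
        rw [Nat.card_congr e.toEquiv, DihedralGroup.nat_card]
      omega
    · exfalso
      obtain ⟨m, ⟨e⟩⟩ := h
      have h1 : (QuaternionGroup.a (1 : ZMod (2 * m))) ^ 4 = 1 := by
        have h2 := hR4 (e.symm (QuaternionGroup.a 1))
        have := congrArg e h2
        simpa using this
      have h2 : 2 * m ∣ 4 := by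
        have := orderOf_dvd_of_pow_eq_one h1
        rwa [QuaternionGroup.orderOf_a_one] at this
      have h3 : 2 * m ≤ 4 := Nat.le_of_dvd (by norm_num) h2
      have hm0 : m ≠ 0 := by
        rintro rfl
        simp at h2
      haveI : NeZero m := ⟨hm0⟩
      have h5 : Nat.card R = 4 * m := by
        rw [Nat.card_congr e.toEquiv, Nat.card_eq_fintype_card, QuaternionGroup.card]
      omega
    · exfalso
      obtain ⟨n, hn, -, x, y, hx, -, -⟩ := h
      have h2 := orderOf_dvd_of_pow_eq_one (hR4 x)
      rw [hx] at h2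
      have h3 : 2 ^ n ≤ 4 := Nat.le_of_dvd (by norm_num) h2
      have h5 : 2 ^ 3 ≤ 2 ^ n := Nat.pow_le_pow_right (by norm_num) hn
      omega
  have hRcen : ∀ r ∈ R, r ∈ Subgroup.center T := by
    intro r hr
    rw [Subgroup.mem_center_iff]
    intro t
    obtain ⟨e, he, r', hr', rfl⟩ := hdec t
    have h1 := hc e he r hr
    have h2 : r' * r = r * r' := by
      have := (IsCyclic.isMulCommutative (α := R)).is_comm.comm ⟨r', hr'⟩ ⟨r, hr⟩
      exact congrArg Subtype.val this
    calc e * r' * r = e * (r' * r) := by group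
      _ = e * (r * r') := by rw [h2]
      _ = (e * r) * r' := by group
      _ = r * e * r' := by rw [h1]
      _ = r * (e * r') := by group
  have hzc : ∀ t : T, t * z = z * t := fun t => (Subgroup.mem_center_iff.mp hz t)
  have hrr : ∀ r ∈ R, r * r = 1 ∨ r * r = z := by
    intro r hr
    apply hcen _ (Subgroup.mul_mem _ (hRcen r hr) (hRcen r hr))
    calc r * r * (r * r) = r ^ 4 := by
          rw [show (4 : ℕ) = 2 + 2 from rfl, pow_add, pow_two]
      _ = 1 := h4 r
  have hEfacts : (∀ e ∈ E, e * e = 1 ∨ e * e = z) ∧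
      (∀ e ∈ E, ∀ e' ∈ E, e * e' = e' * e ∨ e * e' = e' * e * z) := by
    rcases hE with h | h
    · subst h
      constructor
      · intro e he; rw [Subgroup.mem_bot] at he; left; rw [he, mul_one]
      · intro e he e' he'; rw [Subgroup.mem_bot] at he he'; left; rw [he, he']
    · have hcE : ∀ c : E, c ∈ Subgroup.center E → (c : T) = 1 ∨ (c : T) = z := by
        intro c hcc
        have h1 : (c : T) ∈ Subgroup.center T := by
          rw [Subgroup.mem_center_iff]
          intro t
          obtain ⟨e, he, r, hr, rfl⟩ := hdec t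
          have h2 : e * (c : T) = (c : T) * e := by
            have := Subgroup.mem_center_iff.mp hcc ⟨e, he⟩
            exact congrArg Subtype.val this
          have h3 := hc (c : T) c.2 r hr
          calc e * r * (c : T) = e * (r * c) := by group
            _ = e * (c * r) := by rw [h3]
            _ = (e * c) * r := by group
            _ = (c : T) * e * r := by rw [h2]
            _ = (c : T) * (e * r) := by group
        apply hcen _ h1
        have h5 : (⟨c, hcc⟩ : Subgroup.center E) ^ Nat.card (Subgroup.center E) = 1 :=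
          pow_card_eq_one'
        rw [h.2] at h5
        have h6 := congrArg (fun u : Subgroup.center E => ((u : E) : T)) h5
        simpa [pow_two] using h6
      constructor
      · intro e he
        have h1 := Cfsg.Agent.Lib.Helper20.ESpecial.pow_mem_frattini h.1.1 (⟨e, he⟩ : E)
        rw [h.1.2.1] at h1
        have := hcE _ h1
        simpa [pow_two] using this
      · intro e he e' he'
        have h1 : ⁅(⟨e, he⟩ : E)⁻¹, (⟨e', he'⟩ : E)⁻¹⁆ ∈ commutator E := by
          rw [commutator_def]
          exact Subgroup.commutator_mem_commutator (Subgroup.mem_top _) (Subgroup.mem_top _)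
        rw [h.1.2.2] at h1
        have h2 := hcE _ h1
        have h3 : ((⁅(⟨e, he⟩ : E)⁻¹, (⟨e', he'⟩ : E)⁻¹⁆ : E) : T) = (e' * e)⁻¹ * (e * e') := by
          simp [commutatorElement_def, mul_assoc]
        rw [h3] at h2
        rcases h2 with h2 | h2
        · left
          calc e * e' = (e' * e) * ((e' * e)⁻¹ * (e * e')) := by group
            _ = e' * e := by rw [h2, mul_one]
        · right
          calc e * e' = (e' * e) * ((e' * e)⁻¹ * (e * e')) := by group
            _ = e' * e * z := by rw [h2]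
  obtain ⟨hEsq, hEcomm⟩ := hEfacts
  refine ⟨hcen, ?_, ?_⟩
  · intro t
    obtain ⟨e, he, r, hr, rfl⟩ := hdec t
    have hrc' : ∀ u : T, u * r = r * u := Subgroup.mem_center_iff.mp (hRcen r hr)
    have h1 : e * r * (e * r) = (e * e) * (r * r) := by
      calc e * r * (e * r) = e * (r * e) * r := by group
        _ = e * (e * r) * r := by rw [← hrc' e]
        _ = (e * e) * (r * r) := by group
    rw [h1]
    rcases hEsq e he with h | h <;> rcases hrr r hr with h' | h'
    · left; rw [h, h', mul_one]
    · right; rw [h, h', one_mul]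
    · right; rw [h, h', mul_one]
    · left; rw [h, h', hz2]
  · intro t t'
    obtain ⟨e, he, r, hr, rfl⟩ := hdec t
    obtain ⟨e', he', r', hr', rfl⟩ := hdec t'
    have hrc : ∀ u : T, u * r = r * u := Subgroup.mem_center_iff.mp (hRcen r hr)
    have hrc' : ∀ u : T, u * r' = r' * u := Subgroup.mem_center_iff.mp (hRcen r' hr')
    have h1 : e * r * (e' * r') = (e * e') * (r * r') := by
      calc e * r * (e' * r') = e * (r * e') * r' := by group
        _ = e * (e' * r) * r' := by rw [← hrc e']
        _ = (e * e') * (r * r') := by group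
    have h2 : e' * r' * (e * r) = (e' * e) * (r * r') := by
      calc e' * r' * (e * r) = e' * (r' * e) * r := by group
        _ = e' * (e * r') * r := by rw [← hrc' e]
        _ = (e' * e) * (r' * r) := by group
        _ = (e' * e) * (r * r') := by rw [hrc r']
    rw [h1, h2]
    rcases hEcomm e he e' he' with h | h
    · left; rw [h]
    · right; rw [h]
      calc e' * e * z * (r * r') = e' * e * (z * (r * r')) := by group
        _ = e' * e * ((r * r') * z) := by rw [hzc (r * r')]
        _ = e' * e * (r * r') * z := by group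

theorem good_of_symp {G : Type*} [Group G] [Finite G] (z : G) (hz : orderOf z = 2)
    (hQ : Cfsg.IsOfSymplecticType
      ↥(Cfsg.generalizedFittingSubgroup ↥(Subgroup.centralizer ({z} : Set G))))
    (h4 : ∀ q ∈ (Cfsg.generalizedFittingSubgroup ↥(Subgroup.centralizer ({z} : Set G))).map
      (Subgroup.centralizer ({z} : Set G)).subtype, q ^ 4 = 1) :
    SympConj.Good ((Cfsg.generalizedFittingSubgroup ↥(Subgroup.centralizer ({z} : Set G))).map
      (Subgroup.centralizer ({z} : Set G)).subtype) z := by
  classical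
  obtain ⟨H, hH⟩ : ∃ H : Subgroup G, H = Subgroup.centralizer ({z} : Set G) := ⟨_, rfl⟩
  rw [← hH] at hQ h4 ⊢
  obtain ⟨Fs, hFs⟩ : ∃ Fs : Subgroup H, Fs = Cfsg.generalizedFittingSubgroup ↥H := ⟨_, rfl⟩
  rw [← hFs] at hQ h4 ⊢
  have hz2 : z * z = 1 := by rw [← pow_two, ← hz]; exact pow_orderOf_eq_one z
  have hz1 : z ≠ 1 := by
    rintro rfl
    rw [orderOf_one] at hz; omega
  have hmemH : ∀ h : G, h ∈ H ↔ h * z = z * h := by
    intro h
    rw [hH, Subgroup.mem_centralizer_iff]
    constructor
    · intro hh; exact (hh z rfl).symm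
    · intro hh g hg
      rw [Set.mem_singleton_iff] at hg
      rw [hg]; exact hh.symm
  have hmemQ : ∀ q : G, q ∈ Fs.map H.subtype ↔ ∃ hq : q ∈ H, (⟨q, hq⟩ : H) ∈ Fs := by
    intro q
    constructor
    · rintro ⟨x, hx, rfl⟩; exact ⟨x.2, hx⟩
    · rintro ⟨hq, hx⟩; exact ⟨⟨q, hq⟩, hx, rfl⟩
  have hnorm : Fs.Normal := by rw [hFs]; exact Cfsg.Agent.Lib.Helper9.gfitting_normal ↥H
  have hcentF : Subgroup.centralizer (Fs : Set H) ≤ Fs := by
    rw [hFs]; exact Cfsg.Agent.Lib.Helper9.centralizer_gfitting_le ↥H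
  have hcent : ∀ h : G, h * z = z * h → (∀ x ∈ Fs.map H.subtype, h * x = x * h) →
      h ∈ Fs.map H.subtype := by
    intro h hh hc
    rw [hmemQ]
    refine ⟨(hmemH h).mpr hh, ?_⟩
    apply hcentF
    rw [Subgroup.mem_centralizer_iff]
    intro x hx
    apply Subtype.ext
    have := hc (x : G) ((hmemQ _).mpr ⟨x.2, hx⟩)
    exact this.symm
  have hcomm_z : ∀ x ∈ Fs.map H.subtype, x * z = z * x := by
    intro x hx
    obtain ⟨hxH, -⟩ := (hmemQ x).mp hx
    exact (hmemH x).mp hxH
  have hzQ : z ∈ Fs.map H.subtype := hcent z rfl (fun x hx => (hcomm_z x hx).symm)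
  obtain ⟨hzH, hzFs⟩ := (hmemQ z).mp hzQ
  obtain ⟨zT, hzT⟩ : ∃ zT : Fs, zT = ⟨⟨z, hzH⟩, hzFs⟩ := ⟨_, rfl⟩
  have hzTc : ((zT : H) : G) = z := by rw [hzT]
  have hcoe : ∀ u v : Fs, ((u : H) : G) = ((v : H) : G) → u = v := by
    intro u v h
    apply Subtype.ext; apply Subtype.ext; exact h
  have hT := symp_facts (T := Fs) hQ.1 hQ.2 (fun t => by
      apply hcoe
      have := h4 ((t : H) : G) ((hmemQ _).mpr ⟨(t : H).2, t.2⟩)
      simpa using this) zT (by
      rw [Subgroup.mem_center_iff]
      intro t
      apply hcoe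
      have := (hmemH _).mp (t : H).2
      simpa [hzTc] using this) (by apply hcoe; simpa [hzTc] using hz2)
      (by
        intro h
        apply hz1
        have := congrArg (fun u : Fs => ((u : H) : G)) h
        simpa [hzTc] using this)
  obtain ⟨hT1, hT2, hT3⟩ := hT
  have lift : ∀ x ∈ Fs.map H.subtype, ∃ t : Fs, ((t : H) : G) = x := by
    intro x hx
    obtain ⟨hxH, hxF⟩ := (hmemQ x).mp hx
    exact ⟨⟨⟨x, hxH⟩, hxF⟩, rfl⟩
  refine ⟨hzQ, hz1, hz2, hcomm_z, ?_, hcent, ?_, ?_, ?_⟩
  · intro h hh x hx
    obtain ⟨hxH, hxF⟩ := (hmemQ x).mp hx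
    rw [hmemQ]
    have hhH : h ∈ H := (hmemH h).mpr hh
    refine ⟨H.mul_mem (H.mul_mem hhH hxH) (H.inv_mem hhH), ?_⟩
    have := hnorm.conj_mem ⟨x, hxH⟩ hxF ⟨h, hhH⟩
    exact this
  · intro x hx
    obtain ⟨t, rfl⟩ := lift x hx
    rcases hT2 t with h | h
    · left
      have := congrArg (fun u : Fs => ((u : H) : G)) h
      simpa using this
    · right
      have := congrArg (fun u : Fs => ((u : H) : G)) h
      simpa [hzTc] using this
  · intro x hx y hy
    obtain ⟨t, rfl⟩ := lift x hx
    obtain ⟨t', rfl⟩ := lift y hy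
    rcases hT3 t t' with h | h
    · left
      have := congrArg (fun u : Fs => ((u : H) : G)) h
      simpa using this
    · right
      have := congrArg (fun u : Fs => ((u : H) : G)) h
      simpa [hzTc] using this
  · intro w hw hc hww
    obtain ⟨t, rfl⟩ := lift w hw
    have h1 : t ∈ Subgroup.center Fs := by
      rw [Subgroup.mem_center_iff]
      intro u
      apply hcoe
      have := hc ((u : H) : G) ((hmemQ _).mpr ⟨(u : H).2, u.2⟩)
      simpa using this.symm
    have h2 : t * t = 1 := by apply hcoe; simpa using hww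
    rcases hT1 t h1 h2 with h | h
    · left
      have := congrArg (fun u : Fs => ((u : H) : G)) h
      simpa using this
    · right
      have := congrArg (fun u : Fs => ((u : H) : G)) h
      simpa [hzTc] using this

end Cfsg.Agent.Lib.Helper29.SympGlue
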